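import Groth.Agent.H10Coh.CurveBdd.Sections
import Groth.Agent.H22Alg.MumfordBdd
import Groth.Agent.H28Int.Vanishing
import Groth.Agent.H11Ample.RelCounit
import Groth.Agent.H22Alg.SectionCut
import Groth.Agent.H22Alg.KPushCl

/-! # Uniform regularity of semistable sheaves on an integral curve -/

set_option autoImplicit false
set_option backward.isDefEq.respectTransparency.types false
set_option linter.style.haveILetI false
set_option linter.unusedSectionVars false

universe u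

open CategoryTheory CategoryTheory.Limits AlgebraicGeometry Opposite TopologicalSpace Polynomial

namespace Groth.Agent.H10Coh.CurveBdd

open Stab H22Alg

variable {k : Type u} [Field k] {X : Scheme.{u}} [X.Over (Spec (CommRingCat.of k))]
  [IsProper (X ↘ Spec (CommRingCat.of k))]

include k in
theorem subsingleton_HH_of_dim {M : X.Modules} (hM : M.IsQuasicoherent) {Z : Set X} (hZ : IsClosed Z)
    (hsupp : CohB1.support M ⊆ Z) {d : ℕ} (hd : topologicalKrullDim Z ≤ (d : WithBot ℕ∞)) {p : ℕ} (hp : d < p) :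
    Subsingleton (Coh.HH X M p) := by
  haveI := H28Int.isNoetherian k (X := X)
  haveI := Stab.isSeparated_of_proper (Z := X) k
  exact @Equiv.subsingleton _ _ (H10Coh.HHEquiv _ p).toEquiv
    (H28Int.subsingleton_HnM_of_support ⟨Z, hZ⟩ d hd M hM hsupp p hp)

theorem le_zero_of_lt_one {d : WithBot ℕ∞} (h : d < ((1 : ℕ) : WithBot ℕ∞)) : d ≤ ((0 : ℕ) : WithBot ℕ∞) := by
  induction d with
  | bot => exact bot_le
  | coe a =>
    have h' : a < 1 := WithBot.coe_lt_coe.1 h
    exact WithBot.coe_le_coe.2 (le_of_eq (Order.lt_one_iff.1 h'))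

theorem mem_gen_pullSect {Y : Scheme.{u}} {Z : Scheme.{u}} (f : Z ⟶ Y) {M : Y.Modules} (g : Γ(M, ⊤)) {z : Z}
    (hz : f z ∈ H11Ample.gen M g) :
    z ∈ CohB1.genLocus ((Scheme.Modules.pullback f).obj M)
      (H11Tilde.homOfGlobal ((Scheme.Modules.pullback f).obj M)
        (((Scheme.Modules.pullback f).obj M).presheaf.map (homOfLE (show (⊤ : Z.Opens) ≤ f ⁻¹ᵁ ⊤ from le_rfl)).op
          (OmegaSh.pullSect f M ⊤ g))) := by
  rw [H11Ample.genLocus_eq_gen, H11Ample.val_homOfGlobal]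
  have h := H11Tilde.IsGen.pullSect f (H11Ample.isGen_gen (L := M) g)
  refine H11Ample.mem_gen_of_isGen (W := f ⁻¹ᵁ H11Ample.gen M g) ?_ hz
  rw [H11Tilde.pullSect_res] at h
  simp only [H10Coh.mres_mres]
  exact h

variable [IsIntegral X] (hX : topologicalKrullDim X = (1 : WithBot ℕ∞)) {n : ℕ}
  (ι : X ⟶ CohB1.ProjSpace n k) [IsClosedImmersion ι]
  (hι : ι ≫ CohB1.ProjSpace.toSpec n k = X ↘ Spec (CommRingCat.of k))

local notation "P" => CohB1.ProjSpace n k
local notation "O" => fun d : ℤ => Twist.twistProjSpace n k d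

include hX in
/-- A pure module of full dimension on the curve has a coordinate hyperplane section of dimension zero. -/
theorem exists_cut {E : X.Modules} (hE : Coh.IsCoh E) (hp : ShStab.IsPure X E 1) :
    ∃ (C : X.Modules) (μ : E ⟶ CohB1.tensorMod E ((Scheme.Modules.pullback ι).obj (Twist.twistProjSpace n k 1)))
      (π : CohB1.tensorMod E ((Scheme.Modules.pullback ι).obj (Twist.twistProjSpace n k 1)) ⟶ C) (w : μ ≫ π = 0),
      (ShortComplex.mk μ π w).ShortExact ∧ Coh.IsCoh C ∧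
        topologicalKrullDim (CohB1.support C) ≤ ((0 : ℕ) : WithBot ℕ∞) := by
  haveI := isLocallyNoetherian_of_proper (Z := X) k
  have hX' : topologicalKrullDim X = ((1 : ℕ) : WithBot ℕ∞) := by rw [hX]; rfl
  have hs := CMField.setup k n
  obtain ⟨j, -, hj⟩ := hs.cover (ι (genericPoint X))
  let L := (Scheme.Modules.pullback ι).obj (Twist.twistProjSpace n k 1)
  have hL : PicF.IsInvertible L := H11Ample.isInvertible_pullback ι (hs.fam.inv 1)
  let g : Γ(L, ⊤) := L.presheaf.map (homOfLE (show (⊤ : X.Opens) ≤ ι ⁻¹ᵁ ⊤ from le_rfl)).op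
    (OmegaSh.pullSect ι (Twist.twistProjSpace n k 1) ⊤ (CMField.coords k n j))
  let s := H11Tilde.homOfGlobal L g
  have hη : genericPoint X ∈ CohB1.genLocus L s := mem_gen_pullSect ι _ hj
  let μ := SectionCut.mul s E
  have hEL : Coh.IsCoh (CohB1.tensorMod E L) := H11Ample.isCoh_tensor hE hL
  have hK : Coh.IsCoh (kernel μ) := H10Coh.isCoh_kernel μ hE hEL.1
  have hC : Coh.IsCoh (cokernel μ) := H10Coh.isCoh_cokernel μ hE.1 hEL
  haveI := SectionCut.isIso_stalk_mul s E hη
  have hKη : genericPoint X ∉ CohB1.support (kernel μ) :=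
    (H25Euler.notMem_support_iff _ _).2 (IsZero.of_iso (isZero_kernel_of_mono _)
      (PreservesKernel.iso (DerSch.stalkFunctor X (genericPoint X)) μ))
  have hCη : genericPoint X ∉ CohB1.support (cokernel μ) :=
    (H25Euler.notMem_support_iff _ _).2 (IsZero.of_iso (isZero_cokernel_of_epi _)
      (PreservesCokernel.iso (DerSch.stalkFunctor X (genericPoint X)) μ))
  haveI : Mono μ := Preadditive.mono_of_isZero_kernel μ (by_contra fun h0 =>
    (H02CA.SurfStab.dim_lt_of_generic_notMem hX' (H10Coh.isClosed_support _ hK.2) hKη).ne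
      (hp _ (kernel.ι μ) inferInstance hK h0))
  refine ⟨cokernel μ, μ, cokernel.π μ, cokernel.condition μ, { exact := ShortComplex.exact_cokernel _ }, hC, ?_⟩
  have h1 := H02CA.SurfStab.dim_lt_of_generic_notMem hX' (H10Coh.isClosed_support _ hC.2) hCη
  exact le_zero_of_lt_one h1

set_option maxHeartbeats 1000000 in
include hX hι in
/-- The uniform regularity. -/
theorem exists_regularity (Q : ℚ[X]) : ∃ m : ℤ, ∀ E : X.Modules,
    (ShStab.IsSemistable k X ((Scheme.Modules.pullback ι).obj (Twist.twistProjSpace n k 1)) E 0 ∨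
      ShStab.IsSemistable k X ((Scheme.Modules.pullback ι).obj (Twist.twistProjSpace n k 1)) E 1) →
    ShStab.IsHilbPoly k X ((Scheme.Modules.pullback ι).obj (Twist.twistProjSpace n k 1)) E Q →
    Coh.IsCoh E ∧ Pic13.IsMRegular k ι E m ∧
      ∀ d : ℤ, (FGA.eulerCharLE k X (Pic13.twistOn k ι E d) n : ℚ) = Q.eval (d : ℚ) := by
  haveI := CMHyper.noetherian k n
  haveI := MumfordBound.proper_toSpec (k := k) (n := n)
  haveI := isLocallyNoetherian_of_proper (Z := X) k
  have hs := CMField.setup k n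
  have hfam : IsTwistFamily fun a => (Scheme.Modules.pullback ι).obj (Twist.twistProjSpace n k a) :=
    hs.fam.pullback ι
  have hA : CohB1.IsAmple ((Scheme.Modules.pullback ι).obj (Twist.twistProjSpace n k 1)) :=
    H11Ample.isAmple_pullback_of_isAffineHom ι (H11Ample.isAmple_twistProjSpace n k)
  obtain ⟨s, hs0⟩ := exists_twist_no_sections (k := k) hfam hA hX Q
  refine ⟨(⌊Q.eval (-(s : ℚ))⌋.natAbs : ℤ) + 1, fun E hE hQ => ?_⟩
  have hc : Coh.IsCoh E := hE.elim (·.1) (·.1)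
  have hEd : ∀ d : ℤ, Coh.IsCoh (Pic13.twistOn k ι E d) := fun d => H11Ample.isCoh_tensor hc (hfam.inv d)
  have hX1 : topologicalKrullDim (Set.univ : Set X) ≤ ((1 : ℕ) : WithBot ℕ∞) :=
    (Topology.IsInducing.subtypeVal.topologicalKrullDim_le).trans (le_of_eq hX)
  have hhigh : ∀ (d : ℤ) (i : ℕ), 2 ≤ i → Subsingleton (Coh.HH X (Pic13.twistOn k ι E d) i) := fun d i hi =>
    subsingleton_HH_of_dim (k := k) (hEd d).1 isClosed_univ (Set.subset_univ _) hX1 (by omega)
  have hlt : topologicalKrullDim (CohB1.support E) < ((2 : ℕ) : WithBot ℕ∞) := by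
    rcases hE with h | h
    · exact (dim_lt_succ_of_pure h.2.2.1 h.1).trans (by exact_mod_cast Nat.one_lt_two)
    · exact dim_lt_succ_of_pure h.2.2.1 h.1
  have heuler : ∀ d : ℤ, (Curv2.euler k X (Pic13.twistOn k ι E d) : ℚ) = Q.eval (d : ℚ) :=
    fun d => int_of_isHilbPoly hfam hA hc hlt hQ d
  refine ⟨hc, fun i hi => ?_, fun d => ?_⟩
  swap
  · rw [← heuler d]
    refine congrArg Int.cast (Eq.symm ?_)
    have hn : ∀ p, n + 1 ≤ p → Subsingleton (Coh.HH X (Pic13.twistOn k ι E d) p) := fun p hp =>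
      (MumfordBdd.van_push_iff ι hc p d).1 (CMField.van_high k n (by omega)
        (H11Ample.isCoh_tensor (H10Coh.isCoh_push_of_isFinite ι _ hc) (hs.fam.inv d)).1)
    exact H25Euler.euler_eq_sum _ (n + 1) hn
  rcases (show 2 ≤ i ∨ i = 1 by omega) with h2 | rfl
  · exact hhigh _ i h2
  set M : ℤ := (⌊Q.eval (-(s : ℚ))⌋.natAbs : ℤ) + 1 with hM
  rcases hE with hE | hE
  · exact subsingleton_HH_of_dim (k := k) (hEd _).1 (H10Coh.isClosed_support E hc.2)
      (H25Euler.support_tensor_subset E _) (dim_self_of_pure hE.2.2.1 hc hE.2.1).le Nat.one_pos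
  -- the hyperplane sequence on projective space
  obtain ⟨C, μ, π, w, hS, hC, hCd⟩ := exists_cut hX ι hc hE.2.2.1
  have hP := KPushCl.shortExact_push ι hS
  haveI := hP.mono_f
  obtain ⟨e⟩ := H10Coh.Tw.nonempty_push_tensor_iso ι E (hs.fam.inv 1)
  let F := (Coh.push ι).obj E
  have hF : Coh.IsCoh F := H10Coh.isCoh_push_of_isFinite ι _ hc
  let a : F ⟶ CohB1.tensorMod F (Twist.twistProjSpace n k 1) := (Coh.push ι).map μ ≫ e.inv
  haveI : Mono ((Coh.push ι).map μ) := hP.mono_f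
  haveI : Mono a := mono_comp _ _
  obtain ⟨u⟩ := hs.fam.add 1 (-1)
  obtain ⟨z⟩ := hs.fam.zero
  let θ : CohB1.tensorMod (CohB1.tensorMod F (Twist.twistProjSpace n k 1)) (Twist.twistProjSpace n k (-1)) ≅ F :=
    H10Coh.Tw.assoc _ _ _ ≪≫ PicGrp.tensorModIso (Iso.refl _)
      (u ≪≫ eqToIso (congrArg (Twist.twistProjSpace n k) (by norm_num)) ≪≫ z) ≪≫ H10Coh.Tw.rightUnitIso _
  let κ := θ.hom ≫ a
  haveI : Mono κ := mono_comp _ _
  let eC : cokernel κ ≅ (Coh.push ι).obj C :=
    cokernelEpiComp θ.hom a ≪≫ cokernelCompIsIso ((Coh.push ι).map μ) e.inv ≪≫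
      (cokernelIsCokernel ((Coh.push ι).map μ)).coconePointUniqueUpToIso hP.gIsCokernel
  have hCvan : ∀ (d : ℤ) (q : ℕ), 1 ≤ q →
      CMField.Van q (CohB1.tensorMod ((Coh.push ι).obj C) (Twist.twistProjSpace n k d)) := fun d q hq => by
    refine (MumfordBdd.van_push_iff ι hC q d).2 ?_
    have h1 : Coh.IsCoh (Pic13.twistOn k ι C d) := H11Ample.isCoh_tensor hC (hfam.inv d)
    exact subsingleton_HH_of_dim (k := k) h1.1 (H10Coh.isClosed_support C hC.2)
      (H25Euler.support_tensor_subset C _) hCd hq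
  have hreg : ∀ m : ℤ, CMField.Reg O (cokernel κ) m := fun m q hq => by
    show CMField.Van q (CohB1.tensorMod (cokernel κ) (Twist.twistProjSpace n k (m - q)))
    exact H10Coh.Tw.subsingleton_of_iso (PicGrp.tensorModIso eC (Iso.refl _)).symm (hCvan (m - q) q hq)
  have hF₁ : Coh.IsCoh (CohB1.tensorMod F (Twist.twistProjSpace n k 1)) :=
    H11Ample.isCoh_tensor hF (hs.fam.inv 1)
  -- the first cohomology at the negative twist
  have hh0 : CMField.Van 0 (CohB1.tensorMod F (Twist.twistProjSpace n k (-(s : ℤ)))) :=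
    (MumfordBdd.van_push_iff ι hc 0 _).2 (hs0 E hE hQ)
  have hh2 : ∀ q, 2 ≤ q → CMField.Van q (CohB1.tensorMod F (Twist.twistProjSpace n k (-(s : ℤ)))) := fun q hq =>
    (MumfordBdd.van_push_iff ι hc q _).2 (hhigh _ q hq)
  have hχ := MumfordBound.euler_two hh2
  haveI := CMField.van_iff.1 hh0
  rw [Module.finrank_zero_of_subsingleton, Nat.cast_zero, zero_sub] at hχ
  obtain ⟨e'⟩ := H10Coh.Tw.nonempty_push_tensor_iso ι E (hs.fam.inv (-(s : ℤ)))
  haveI : (CohB1.tensorMod E ((Scheme.Modules.pullback ι).obj (Twist.twistProjSpace n k (-(s : ℤ))))).IsQuasicoherent :=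
    (hEd _).1
  rw [H25Euler.euler_congr e', H28Int.Push.euler_push k ι hι] at hχ
  have hv : Q.eval (-(s : ℚ)) =
      ((-(Module.finrank k (Coh.HH P (CohB1.tensorMod F (Twist.twistProjSpace n k (-(s : ℤ)))) 1) : ℤ) : ℤ) : ℚ) := by
    rw [← hχ, show (-(s : ℚ)) = ((-(s : ℤ) : ℤ) : ℚ) by push_cast; rfl]
    exact (heuler _).symm
  obtain ⟨e₁⟩ := MumfordBound.nonempty_twist_twist F (-(s : ℤ) - 1)
  have hh1 : CMHyper.h1 (CohB1.tensorMod F (Twist.twistProjSpace n k 1)) (-(s : ℤ) - 1) =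
      Module.finrank k (Coh.HH P (CohB1.tensorMod F (Twist.twistProjSpace n k (-(s : ℤ)))) 1) := by
    have := CurveAmple.finrank_HH_congr (k := k) e₁ 1
    rwa [sub_add_cancel] at this
  have hMv : -(s : ℤ) - 1 + (CMHyper.h1 (CohB1.tensorMod F (Twist.twistProjSpace n k 1)) (-(s : ℤ) - 1) : ℤ) ≤
      M - 1 - 1 := by
    rw [hh1, hM, hv, Int.floor_intCast]
    simp only [Int.natAbs_neg, Int.natAbs_natCast]
    omega
  have hv1 := CMHyper.van_one hF₁ (hreg (-(s : ℤ))) hMv
  obtain ⟨e₂⟩ := MumfordBound.nonempty_twist_twist F (M - 1 - 1)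
  have h2 := H10Coh.Tw.subsingleton_of_iso e₂ hv1
  rw [sub_add_cancel] at h2
  exact (MumfordBdd.van_push_iff ι hc 1 _).1 h2

end Groth.Agent.H10Coh.CurveBdd
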