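import Groth.Agent.H10Coh.Stab.Criteria
import Groth.Agent.H10Coh.Stab.TwistInt
import Groth.Agent.H02CA.SurfStab.Alpha
import Groth.Agent.H29RR.GenPoint
import Groth.Agent.H11Ample.Ample
import Groth.Agent.H10Coh.TwistExact
import Groth.Agent.H28Int.Positive
import Groth.Agent.H06RedMod.Basic

/-! # Semistable sheaves on an integral curve have no sections after a uniform negative twist -/

set_option autoImplicit false
set_option backward.isDefEq.respectTransparency.types false
set_option linter.style.haveILetI false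
set_option linter.unusedSectionVars false

universe u

open CategoryTheory CategoryTheory.Limits AlgebraicGeometry Opposite TopologicalSpace Polynomial

namespace Groth.Agent.H10Coh.CurveBdd

open StabCat Stab

variable {k : Type u} [Field k] {X : Scheme.{u}} [X.Over (Spec (CommRingCat.of k))]
  [IsProper (X ↘ Spec (CommRingCat.of k))] [IsIntegral X] {L : X.Modules}

include k in
/-- A nonzero map from an invertible module to a pure module of full dimension is injective. -/
theorem mono_of_ne_zero_of_pure {d : ℕ} (hX : topologicalKrullDim X = (d : WithBot ℕ∞)) {N E : X.Modules}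
    (hN : PicF.IsInvertible N) (hE : Coh.IsCoh E) (hp : ShStab.IsPure X E d) {φ : N ⟶ E} (hφ : φ ≠ 0) : Mono φ := by
  haveI := isLocallyNoetherian_of_proper (Z := X) k
  have hNc := H11Ample.isCoh_of_isInvertible hN
  refine Preadditive.mono_of_isZero_kernel φ (by_contra fun hK => ?_)
  have hKc := H10Coh.isCoh_kernel φ hNc hE.1
  have hη := H02CA.SurfStab.generic_notMem_cokernel (k := k) hX hKc hK hN (kernel.ι φ)
  let e : cokernel (kernel.ι φ) ≅ Abelian.image φ := Abelian.coimageIsoImage φ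
  have hQ : Coh.IsCoh (cokernel (kernel.ι φ)) := H10Coh.isCoh_cokernel _ hKc.1 hNc
  have hQ0 : ¬ IsZero (cokernel (kernel.ι φ)) := fun h => not_isZero_image hφ (h.of_iso e.symm)
  have hd := hp _ (e.hom ≫ Abelian.image.ι φ) inferInstance hQ hQ0
  exact (H02CA.SurfStab.dim_lt_of_generic_notMem hX (H10Coh.isClosed_support _ hQ.2) hη).ne hd

/-- Tensoring with an invertible module is faithful. -/
theorem eq_zero_of_tensorModMap {Y : Scheme.{u}} {M N A : Y.Modules} (hA : PicF.IsInvertible A) {g : M ⟶ N}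
    (h : LimSh.tensorModMap g A = 0) : g = 0 := by
  refine Scheme.Modules.hom_ext _ _ fun W => ConcreteCategory.hom_ext _ _ fun m => ?_
  refine H11Tilde.eq_of_locally _ _ fun x hx => ?_
  obtain ⟨U, e, hxU, he⟩ := H11Ample.exists_gen hA x
  refine ⟨U ⊓ W, inf_le_right, ⟨hxU, hx⟩, ?_⟩
  refine H10Coh.Tw.tm_inj (he.res (inf_le_left : U ⊓ W ≤ U)) ?_
  erw [← H11Tilde.app_map_apply]
  rw [← H10Coh.Tw.map_tm g A, h]
  show (0 : Γ(CohB1.tensorMod N A, U ⊓ W)) = _
  erw [map_zero]
  exact (H11Ample.tm_zero_left _).symm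

/-- The uniform negative twist without sections. -/
theorem exists_twist_no_sections {O : ℤ → X.Modules} (h : IsTwistFamily O) (hL : CohB1.IsAmple (O 1))
    (hX : topologicalKrullDim X = (1 : WithBot ℕ∞)) (P : ℚ[X]) :
    ∃ s : ℕ, ∀ E : X.Modules, ShStab.IsSemistable k X (O 1) E 1 → ShStab.IsHilbPoly k X (O 1) E P →
      Subsingleton (Coh.HH X (CohB1.tensorMod E (O (-(s : ℤ)))) 0) := by
  haveI := isLocallyNoetherian_of_proper (Z := X) k
  have hX' : topologicalKrullDim X = ((1 : ℕ) : WithBot ℕ∞) := by rw [hX]; rfl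
  have hS := H10Coh.isCoh_structureModule' X
  obtain ⟨p, hp⟩ := H02CA.SurfStab.exists_poly (k := k) hL hX' hS
  have hS0 : ¬ IsZero (Coh.structureModule X) := fun h0 => by
    exact (H25Euler.notMem_support_iff _ _).2 ((DerSch.stalkFunctor X (genericPoint X)).map_isZero h0)
      (H06RedMod.mem_support_structureModule _)
  have hpS : ShStab.IsPure X (Coh.structureModule X) 1 :=
    isPure_of_isReflexive k (H02CA.SurfStab.isReflexive_of_vb
      (H28Pinch.isFinLocFree_of_isInvertible (H28Int.isInvertible_structureModule X)) hS) hX'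
  have hδ : 0 < p.coeff 1 := by simpa [alpha] using alpha_pos_of_pure hL hpS hS hS0 hp
  obtain ⟨s, hs⟩ := exists_nat_gt (P.coeff 0 / P.coeff 1 - p.coeff 0 / p.coeff 1)
  refine ⟨s, fun E hE hP => ?_⟩
  by_contra hne
  obtain ⟨hc, h0, hpu, hss⟩ := hE
  let M := CohB1.tensorMod E (O (-(s : ℤ)))
  obtain ⟨v, hv⟩ : ∃ v : Coh.HH X M 0, v ≠ 0 := by
    by_contra hh
    push Not at hh
    exact hne (subsingleton_of_forall_eq 0 hh)
  let t : Γ(M, ⊤) := H29RR.sec M v
  have ht : H11Tilde.homOfGlobal M t ≠ 0 := fun h' => hv ((H29RR.sec M).injective (by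
    rw [map_zero]
    show t = 0
    rw [← H11Ample.val_homOfGlobal (L := M) t, h']
    rfl))
  -- `O(s) ⟶ E`
  obtain ⟨a⟩ := h.add (-(s : ℤ)) s
  obtain ⟨z⟩ := h.zero
  let θ : CohB1.tensorMod M (O s) ≅ E :=
    H10Coh.Tw.assoc _ _ _ ≪≫ PicGrp.tensorModIso (Iso.refl E)
      (a ≪≫ eqToIso (congrArg O (neg_add_cancel _)) ≪≫ z) ≪≫ H10Coh.Tw.rightUnitIso E
  let φ : O s ⟶ E := (H10Coh.Tw.leftUnitIso (O s)).inv ≫
    LimSh.tensorModMap (H11Tilde.homOfGlobal M t) (O s) ≫ θ.hom
  have hφ : φ ≠ 0 := by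
    intro h'
    apply ht
    have h1 : LimSh.tensorModMap (H11Tilde.homOfGlobal M t) (O s) = 0 := by
      rwa [← cancel_epi (H10Coh.Tw.leftUnitIso (O s)).inv, Limits.comp_zero, ← cancel_mono θ.hom, Category.assoc, Limits.zero_comp]
    exact eq_zero_of_tensorModMap (h.inv s) h1
  haveI := mono_of_ne_zero_of_pure (k := k) hX' (h.inv s) hc hpu hφ
  have hN0 : ¬ IsZero (O s) := fun hz => hφ (hz.eq_of_src _ _)
  obtain ⟨es⟩ := h.nonempty_tensorPow s
  have hpN : ShStab.IsHilbPoly k X (O 1) (O s) (p.comp (Polynomial.X + Polynomial.C (s : ℚ))) :=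
    H02CA.SurfStab.hilbPoly_shift (h.inv 1) s (es.symm ≪≫ (H10Coh.Tw.leftUnitIso _).symm) hp
  have hle : RedLE 1 (p.comp (Polynomial.X + Polynomial.C (s : ℚ))) P := by
    by_cases hi : IsIso φ
    · have hPN : P = p.comp (Polynomial.X + Polynomial.C (s : ℚ)) := by
        refine Polynomial.eq_of_infinite_eval_eq _ _ (Set.Infinite.mono ?_
          (Set.infinite_range_of_injective (Nat.cast_injective (R := ℚ))))
        rintro _ ⟨m, rfl⟩
        show P.eval _ = _
        rw [← hP m, ← hpN m]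
        exact congrArg Int.cast (H25Euler.euler_congr (PicGrp.tensorModIso (asIso φ).symm (Iso.refl _)))
      rw [hPN, redLE_iff, Stab.cross_self]
      exact ⟨0, fun m _ => by simp⟩
    · exact hss (O s) φ inferInstance (H11Ample.isCoh_of_isInvertible (h.inv s)) hN0 hi _ _ hpN hP
  have he : 0 < P.coeff 1 := by simpa [alpha] using alpha_pos_of_pure hL hpu hc h0 hP
  have hdeg : ∀ {Q : ℚ[X]}, (∀ n, 1 < n → Q.coeff n = 0) → Q = Polynomial.C (Q.coeff 1) * Polynomial.X + Polynomial.C (Q.coeff 0) :=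
    fun {Q} hQ => Polynomial.eq_X_add_C_of_natDegree_le_one (Polynomial.natDegree_le_iff_coeff_eq_zero.2 hQ)
  have hp1 := hdeg (coeff_above hL hpS hS hp)
  have hP1 := hdeg (coeff_above hL hpu hc hP)
  have hN1 : (p.comp (Polynomial.X + Polynomial.C (s : ℚ))).coeff 1 = p.coeff 1 := by
    conv_lhs => rw [hp1]
    simp [Polynomial.coeff_X]
  obtain ⟨N, hN⟩ := hle
  have h1 := hN N le_rfl
  have e1 : p.eval ((N : ℚ) + s) = p.coeff 1 * (N + s) + p.coeff 0 := by
    conv_lhs => rw [hp1]
    simp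
  have e2 : P.eval (N : ℚ) = P.coeff 1 * N + P.coeff 0 := by
    conv_lhs => rw [hP1]
    simp
  simp only [alpha, Nat.factorial_one, Nat.cast_one, one_mul, Polynomial.eval_smul, smul_eq_mul, hN1,
    Polynomial.eval_comp, Polynomial.eval_add, Polynomial.eval_X, Polynomial.eval_C, e1, e2] at h1
  have h2 : P.coeff 1 * (p.coeff 1 * (s : ℚ) + p.coeff 0) ≤ p.coeff 1 * P.coeff 0 := by linarith [h1]
  rw [div_sub_div _ _ he.ne' hδ.ne', div_lt_iff₀ (mul_pos he hδ)] at hs
  nlinarith

end Groth.Agent.H10Coh.CurveBdd
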